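import Mathlib.RingTheory.Ideal.GoingUp
import Mathlib.RingTheory.IntegralClosure.IsIntegralClosure.Basic
import Mathlib.RingTheory.Adjoin.Basic
import Mathlib.Algebra.CharP.Lemmas

/-!
Integral, universally injective ring maps in characteristic `p`: a power `p ^ n` of every element
comes from the base.
-/

universe u

namespace GrothLib.PerfUH

variable {A B : Type u} [CommRing A] [CommRing B] [Algebra A B] (p : ℕ) [Fact p.Prime] [ExpChar B p]

/-- Elements having a power of `p`-th power in the image. -/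
def powClosure : Subalgebra A B where
  carrier := {x | ∃ n, x ^ p ^ n ∈ Set.range (algebraMap A B)}
  mul_mem' := by
    rintro x y ⟨n, a, ha⟩ ⟨m, b, hb⟩
    refine ⟨n + m, a ^ p ^ m * b ^ p ^ n, ?_⟩
    rw [map_mul, map_pow, map_pow, ha, hb, mul_pow]
    simp only [← pow_mul, ← pow_add, add_comm m n]
  add_mem' := by
    rintro x y ⟨n, a, ha⟩ ⟨m, b, hb⟩
    refine ⟨n + m, a ^ p ^ m + b ^ p ^ n, ?_⟩
    rw [map_add, map_pow, map_pow, ha, hb, add_pow_expChar_pow]
    simp only [← pow_mul, ← pow_add, add_comm m n]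
  algebraMap_mem' r := ⟨0, r, by simp⟩

theorem mem_powClosure_of_pow {x : B} {n : ℕ} (h : x ^ p ^ n ∈ powClosure (A := A) p) :
    x ∈ powClosure (A := A) p := by
  obtain ⟨m, hm⟩ := h
  exact ⟨n + m, by rwa [pow_add, pow_mul]⟩

/-- In characteristic `p`, for an integral map injective on primes with purely inseparable residue
fields, every element has a power `p ^ n` in the image. -/
theorem exists_pow_mem [Algebra.IsIntegral A B]
    (hinj : ∀ Q Q' : Ideal B, Q.IsPrime → Q'.IsPrime →
      Q.comap (algebraMap A B) = Q'.comap (algebraMap A B) → Q = Q')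
    (hres : ∀ Q : Ideal B, Q.IsPrime → ∀ x : B, ∃ (e : ℕ) (a s : A),
      algebraMap A B s ∉ Q ∧ algebraMap A B s * x ^ p ^ e - algebraMap A B a ∈ Q)
    (b : B) : ∃ n, b ^ p ^ n ∈ Set.range (algebraMap A B) := by
  classical
  have hp : 1 < p := (Fact.out : p.Prime).one_lt
  let A' := powClosure (A := A) (B := B) p
  show b ∈ A'
  have hint : Algebra.IsIntegral A' B := ⟨fun x => (Algebra.IsIntegral.isIntegral (R := A) x).tower_top⟩
  let C : Subalgebra A' B := Algebra.adjoin A' {b}
  have hC : (Subalgebra.toSubmodule C).FG :=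
    (Algebra.IsIntegral.isIntegral (R := A') b).fg_adjoin_singleton
  let I : Ideal A' :=
    { carrier := {r | ∀ c ∈ C, (r : B) * c ∈ A'}
      zero_mem' := fun c _ => by simp
      add_mem' := fun {r r'} hr hr' c hc => by
        rw [Subalgebra.coe_add, add_mul]
        exact add_mem (hr c hc) (hr' c hc)
      smul_mem' := fun r r' hr' c hc => by
        rw [smul_eq_mul, Subalgebra.coe_mul, mul_assoc]
        exact mul_mem r.2 (hr' c hc) }
  by_cases h1 : (1 : A') ∈ I
  · simpa using h1 b (Algebra.self_mem_adjoin_singleton _ b)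
  exfalso
  obtain ⟨P, hP⟩ := Ideal.nonempty_minimalPrimes (I := I) (fun h => h1 (h ▸ trivial))
  have hPp : P.IsPrime := hP.1.1
  have hPI : ∀ m ∈ P, ∃ v ∉ P, ∃ N : ℕ, v * m ^ N ∈ I := by
    intro m hm
    by_contra! h
    obtain ⟨P', hP', hIP', hdisj⟩ := Ideal.exists_le_prime_disjoint I (P.primeCompl ⊔ Submonoid.powers m)
      (Set.disjoint_left.mpr fun r hr hrS => by
        obtain ⟨v, hv, _, ⟨N, rfl⟩, rfl⟩ := Submonoid.mem_sup.mp hrS
        exact h v hv N hr)
    have hle : P' ≤ P := fun r hr => by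
      by_contra hrP
      exact Set.disjoint_left.mp hdisj hr (Submonoid.mem_sup_left hrP)
    exact Set.disjoint_left.mp hdisj (hP.2 ⟨hP', hIP'⟩ hle hm)
      (Submonoid.mem_sup_right (Submonoid.mem_powers m))
  let K : Submodule A' B :=
    { carrier := {c | ∃ v : A', v ∉ P ∧ (v : B) * c ∈ A'}
      zero_mem' := ⟨1, hPp.one_notMem, by simp⟩
      add_mem' := by
        rintro c c' ⟨v, hv, hc⟩ ⟨v', hv', hc'⟩
        refine ⟨v * v', hPp.mul_notMem hv hv', ?_⟩
        rw [Subalgebra.coe_mul, mul_add, mul_right_comm (v : B), mul_assoc (v : B) (v' : B) c']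
        exact add_mem (mul_mem hc v'.2) (mul_mem v.2 hc')
      smul_mem' := by
        rintro r c ⟨v, hv, hc⟩
        refine ⟨v, hv, ?_⟩
        rw [Subalgebra.smul_def, smul_eq_mul, mul_left_comm]
        exact mul_mem r.2 hc }
  have hKpow : ∀ {v : B} {x : B} {n : ℕ}, v ∈ A' → v * x ^ p ^ n ∈ A' → v * x ∈ A' := fun {v x n} hv h => by
    refine mem_powClosure_of_pow p (n := n) ?_
    rw [mul_pow, ← Nat.sub_add_cancel (Nat.one_le_pow n p (by omega)), pow_succ,
      Nat.sub_add_cancel (Nat.one_le_pow n p (by omega)), mul_assoc]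
    exact mul_mem (pow_mem hv _) h
  -- `P C` lies in `K`
  have hPC : ∀ m ∈ P, ∀ c ∈ C, (m : B) * c ∈ K := by
    intro m hm c hc
    obtain ⟨v, hv, N, hI⟩ := hPI m hm
    refine ⟨v, hv, hKpow (n := N) v.2 ?_⟩
    have hle : N ≤ p ^ N := (Nat.lt_pow_self hp).le
    have := hI ((m : B) ^ (p ^ N - N) * c ^ p ^ N) (mul_mem (pow_mem (C.algebraMap_mem m) _) (pow_mem hc _))
    rwa [Subalgebra.coe_mul, Subalgebra.coe_pow, mul_assoc, ← mul_assoc ((m : B) ^ N), ← pow_add,
      Nat.add_sub_cancel' hle, ← mul_pow] at this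
  let ι : A' →+* C := algebraMap A' C
  have hPC' : ∀ z ∈ P.map ι, ∀ r : C, (r : B) * (z : B) ∈ K := by
    intro z hz
    rw [Ideal.map] at hz
    induction hz using Submodule.span_induction with
    | mem z hz =>
      obtain ⟨m, hm, rfl⟩ := hz
      intro r
      rw [mul_comm]
      exact hPC m hm r r.2
    | zero => intro r; simp
    | add z z' _ _ h h' => intro r; rw [Subalgebra.coe_add, mul_add]; exact add_mem (h r) (h' r)
    | smul s z _ h => intro r; rw [smul_eq_mul, Subalgebra.coe_mul, ← mul_assoc, ← Subalgebra.coe_mul]; exact h _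
  obtain ⟨Q, hQ, hQP⟩ : ∃ Q : Ideal B, Q.IsPrime ∧ Q.comap (algebraMap A' B) = P := by
    obtain ⟨Q, -, hQ, hQP⟩ := Ideal.exists_ideal_over_prime_of_isIntegral P (⊥ : Ideal B) (by
      rw [← RingHom.ker_eq_comap_bot,
        (RingHom.injective_iff_ker_eq_bot _).mp Subtype.val_injective]
      exact bot_le)
    exact ⟨Q, hQ, hQP⟩
  have hCK : ∀ x ∈ C, x ∈ K := by
    intro x hx
    obtain ⟨e, a, s, hs, hy⟩ := hres Q hQ x
    let s' : A' := algebraMap A A' s
    have hs'P : s' ∉ P := fun h => hs (by rw [← hQP] at h; exact h)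
    let y : C := ⟨algebraMap A B s * x ^ p ^ e - algebraMap A B a,
      sub_mem (mul_mem (C.algebraMap_mem s') (pow_mem hx _)) (C.algebraMap_mem (algebraMap A A' a))⟩
    obtain ⟨u, hu, M, hM⟩ : ∃ u ∉ P, ∃ M : ℕ, ι u * y ^ M ∈ P.map ι := by
      by_contra! h
      obtain ⟨Q1, hQ1, hPQ1, hdisj⟩ := Ideal.exists_le_prime_disjoint (P.map ι)
        (P.primeCompl.map ι ⊔ Submonoid.powers y) (Set.disjoint_left.mpr fun r hr hrS => by
          obtain ⟨_, ⟨v, hv, rfl⟩, _, ⟨M, rfl⟩, rfl⟩ := Submonoid.mem_sup.mp hrS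
          exact h v hv M hr)
      have hQ1P : Q1.comap ι = P := le_antisymm
        (fun r hr => by
          by_contra hrP
          exact Set.disjoint_left.mp hdisj hr (Submonoid.mem_sup_left ⟨r, hrP, rfl⟩))
        (Ideal.map_le_iff_le_comap.mp hPQ1)
      have : Algebra.IsIntegral C B := ⟨fun x => (Algebra.IsIntegral.isIntegral (R := A') x).tower_top⟩
      obtain ⟨Q2, -, hQ2, hQ21⟩ := Ideal.exists_ideal_over_prime_of_isIntegral Q1 (⊥ : Ideal B) (by
        rw [← RingHom.ker_eq_comap_bot,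
          (RingHom.injective_iff_ker_eq_bot _).mp Subtype.val_injective]
        exact bot_le)
      have hQQ : Q2 = Q := hinj Q2 Q hQ2 hQ (by
        rw [IsScalarTower.algebraMap_eq A A' B, ← Ideal.comap_comap, ← Ideal.comap_comap, hQP]
        congr 1
        rw [← hQ1P, ← hQ21, Ideal.comap_comap]
        rfl)
      have : y ∈ Q1 := by
        rw [← hQ21, hQQ]
        exact hy
      exact Set.disjoint_left.mp hdisj this (Submonoid.mem_sup_right (Submonoid.mem_powers y))
    have hmem : ι u * y ^ p ^ M ∈ P.map ι := by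
      rw [← Nat.sub_add_cancel (Nat.lt_pow_self hp (n := M)).le, pow_add, mul_left_comm]
      exact Ideal.mul_mem_left _ _ hM
    obtain ⟨v, hv, hvu⟩ := hPC' _ hmem 1
    rw [OneMemClass.coe_one, one_mul] at hvu
    refine ⟨v * u * s', hPp.mul_notMem (hPp.mul_notMem hv hu) hs'P, hKpow (n := e) (mul_mem (mul_mem v.2 u.2) s'.2) ?_⟩
    have h2 : (v : B) * (u : B) * (y : B) ∈ A' :=
      hKpow (n := M) (mul_mem v.2 u.2) (by
        rw [mul_assoc]
        exact hvu)
    have h3 := add_mem h2 (mul_mem (mul_mem v.2 u.2) (A'.algebraMap_mem a))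
    have e3 : (v : B) * u * algebraMap A B s * x ^ p ^ e =
        (v : B) * u * (y : B) + (v : B) * u * algebraMap A B a := by
      simp only [y]; ring
    rw [show ((v * u * s' : A') : B) = (v : B) * u * algebraMap A B s from rfl, e3]
    exact h3
  obtain ⟨G, hG⟩ := hC
  have hGC : ∀ g : G, (g : B) ∈ C := fun g => by
    rw [← Subalgebra.mem_toSubmodule, ← hG]
    exact Submodule.subset_span g.2
  choose v hv hvg using fun g : G => hCK g (hGC g)
  refine (fun h => ?_) (hP.1.2 : I ≤ P)
  have hprod : (∏ g, v g) ∈ I := fun c hc => by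
    rw [← Subalgebra.mem_toSubmodule, ← hG] at hc
    induction hc using Submodule.span_induction with
    | mem c hc =>
      obtain ⟨w, hw⟩ := Finset.dvd_prod_of_mem v (Finset.mem_univ ⟨c, hc⟩)
      rw [hw, Subalgebra.coe_mul, mul_right_comm]
      exact mul_mem (hvg ⟨c, hc⟩) w.2
    | zero => simp
    | add c c' _ _ h h' => rw [mul_add]; exact add_mem h h'
    | smul r c _ h => rw [Subalgebra.smul_def, smul_eq_mul, mul_left_comm]; exact mul_mem r.2 h
  exact P.primeCompl.prod_mem (fun g _ => hv g) (h hprod)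

end GrothLib.PerfUH
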